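import Groth.Agent.TwoTermLib.MinRep
import Groth.Agent.TwoTermLib.LTCx
import Groth.Agent.DTenLib.HomCx
import Groth.Agent.DualCxLib.Biduality
import Groth.Agent.DRingLib.Devissage

/-!
# Tensor invertible complexes over a local ring
-/

set_option autoImplicit false
set_option linter.all false
set_option maxHeartbeats 1000000

universe u

open CategoryTheory CategoryTheory.Limits HomologicalComplex MonoidalCategory
open Groth.Agent
open DTenLib.Point (hH sg)
open scoped TensorProduct

attribute [local instance] HasDerivedCategory.standard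

noncomputable section

namespace InvCxLib

variable {A : Type u} [CommRing A] [IsLocalRing A]

local notation "κ" => IsLocalRing.ResidueField A

/-- Bounded above, finite free in each degree, minimal. -/
structure IsMin (P : DRing.Cx A) (b : ℤ) : Prop where
  above : ∀ i, b < i → IsZero (P.X i)
  free : ∀ i, Module.Free A (P.X i) ∧ Module.Finite A (P.X i)
  minimal : ∀ m n, m + 1 = n → (P.d m n).hom.baseChange κ = 0

theorem exists_min [IsNoetherianRing A] (K : Dual.D A) (hfin : ∀ i : ℤ, Module.Finite A (Dual.HD A K i))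
    {b : ℤ} (hb : ∀ i, b < i → Subsingleton (Dual.HD A K i)) :
    ∃ (P : DRing.Cx A) (b' : ℤ), IsMin P b' ∧ Nonempty (DerivedCategory.Q.obj P ≅ K) := by
  obtain ⟨E, c, hc, hE, ⟨eE⟩⟩ := DualCxLib.isPseudoCoherent'_of_finite b
    (fun i hi => @ModuleCat.isZero_of_subsingleton _ _ _ (hb i hi)) hfin
  obtain ⟨P, hP, hPf, hPm, ⟨e⟩⟩ := TwoTermLib.MinRep.exists_minimal E hE hc
  exact ⟨P, c, ⟨hP, hPf, hPm⟩, ⟨e ≪≫ eE⟩⟩

theorem baseChange_eq_zero_iff {M N : Type u} [AddCommGroup M] [Module A M] [AddCommGroup N] [Module A N]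
    (f : M →ₗ[A] N) :
    f.baseChange κ = 0 ↔ ∀ x, f x ∈ IsLocalRing.maximalIdeal A • (⊤ : Submodule A N) := by
  have hker : ∀ y : N, ((1 : κ) ⊗ₜ[A] y) = 0 ↔ y ∈ IsLocalRing.maximalIdeal A • (⊤ : Submodule A N) := fun y => by
    have h2 : TensorProduct.quotTensorEquivQuotSMul N (IsLocalRing.maximalIdeal A)
        (Ideal.Quotient.mk (IsLocalRing.maximalIdeal A) 1 ⊗ₜ[A] y) = Submodule.Quotient.mk y := by
      rw [TensorProduct.quotTensorEquivQuotSMul_mk_tmul, one_smul]
    exact ((TensorProduct.quotTensorEquivQuotSMul N (IsLocalRing.maximalIdeal A)).map_eq_zero_iff.symm.trans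
      (Iff.of_eq (congrArg (· = 0) h2))).trans (Submodule.Quotient.mk_eq_zero _)
  refine ⟨fun h x => (hker _).1 ?_, fun h => ?_⟩
  · rw [← LinearMap.baseChange_tmul, h, LinearMap.zero_apply]
  · refine TensorProduct.AlgebraTensorModule.ext fun a x => ?_
    rw [← mul_one a, ← smul_eq_mul, ← TensorProduct.smul_tmul', map_smul, LinearMap.baseChange_tmul,
      (hker _).2 (h x)]
    simp

theorem IsMin.mem_smul {P : DRing.Cx A} {b : ℤ} (hP : IsMin P b) (m n : ℤ) (h : m + 1 = n) (x : P.X m) :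
    P.d m n x ∈ IsLocalRing.maximalIdeal A • (⊤ : Submodule A (P.X n)) :=
  (baseChange_eq_zero_iff _).1 (hP.minimal m n h) x

theorem isMin_tensor {P Q : DRing.Cx A} {b c : ℤ} (hP : IsMin P b) (hQ : IsMin Q c) :
    IsMin (KFlatLib.tT P Q) (b + c) where
  above n hn := TwoTermLib.LTCx.isZero_tensor_X n fun p q h => by
    by_cases hp : b < p
    · exact Or.inl (hP.above p hp)
    · exact Or.inr (hQ.above q (by omega))
  free n := by
    haveI : Module.Finite A ((KFlatLib.tT P Q).X n) :=
      TwoTermLib.LTCx.finite_tensor_X (fun i => (hP.free i).2) (fun i => (hQ.free i).2) hP.above hQ.above n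
    haveI : Module.Projective A ((KFlatLib.tT P Q).X n) :=
      TwoTermLib.LTCx.projective_tensor_X (fun i => haveI := (hP.free i).1; inferInstance)
        (fun i => haveI := (hQ.free i).1; inferInstance) n
    exact ⟨Module.free_of_flat_of_isLocalRing, inferInstance⟩
  minimal m n h := (baseChange_eq_zero_iff _).2 fun x => by
    let S := IsLocalRing.maximalIdeal A • (⊤ : Submodule A ((KFlatLib.tT P Q).X n))
    have hz : (KFlatLib.tT P Q).d m n ≫ ModuleCat.ofHom S.mkQ = 0 := by
      refine mapBifunctor.hom_ext fun p q hpq => ?_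
      have hpq' : p + q = m := hpq
      refine ModuleCat.hom_ext (TensorProduct.ext' fun e y => ?_)
      show S.mkQ ((KFlatLib.tT P Q).d m n ((KFlatLib.ιT P Q p q m hpq').hom (e ⊗ₜ y))) = 0
      rw [DTenLib.tensor_d_apply p q m n hpq' h e y]
      refine (Submodule.Quotient.mk_eq_zero S).2 (add_mem ?_ ?_)
      · have key := hP.mem_smul p (p + 1) rfl e
        revert key
        generalize ((P.d p (p + 1)).hom e : P.X (p + 1)) = w
        intro key
        induction key using Submodule.smul_induction_on' with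
        | smul r hr z hz => rw [← TensorProduct.smul_tmul', map_smul]; exact Submodule.smul_mem_smul hr trivial
        | add u _ v _ hu hv => rw [TensorProduct.add_tmul, map_add]; exact add_mem hu hv
      · rw [Units.smul_def]
        refine zsmul_mem ?_ _
        have key := hQ.mem_smul q (q + 1) rfl y
        revert key
        generalize ((Q.d q (q + 1)).hom y : Q.X (q + 1)) = w
        intro key
        induction key using Submodule.smul_induction_on' with
        | smul r hr z hz => rw [TensorProduct.tmul_smul, map_smul]; exact Submodule.smul_mem_smul hr trivial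
        | add u _ v _ hu hv => rw [TensorProduct.tmul_add, map_add]; exact add_mem hu hv
    exact (Submodule.Quotient.mk_eq_zero S).1 (congrArg (fun φ => φ.hom x) hz)

theorem isMin_single : IsMin ((single (ModuleCat.{u} A) (ComplexShape.up ℤ) 0).obj (ModuleCat.of A A)) 0 where
  above i hi := isZero_single_obj_X _ _ _ i (by omega)
  free i := by
    by_cases h : i = 0
    · subst h
      let e := (singleObjXSelf (ComplexShape.up ℤ) 0 (ModuleCat.of A A)).toLinearEquiv.symm
      exact ⟨Module.Free.of_equiv e, Module.Finite.equiv e⟩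
    · haveI := ModuleCat.subsingleton_of_isZero (isZero_single_obj_X (ComplexShape.up ℤ) 0 (ModuleCat.of A A) i h)
      exact ⟨inferInstance, inferInstance⟩
  minimal m n h := by rw [single_obj_d]; exact LinearMap.baseChange_zero

theorem exists_degree {P Q : DRing.Cx A} {b c : ℤ} (hP : IsMin P b) (hQ : IsMin Q c)
    (e : KFlatLib.tT P Q ≅ (single (ModuleCat.{u} A) (ComplexShape.up ℤ) 0).obj (ModuleCat.of A A)) :
    ∃ a : ℤ, (∀ q, q ≠ -a → IsZero (Q.X q)) ∧ Module.finrank A (Q.X (-a)) = 1 := by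
  have hne : ∀ p q, Nontrivial (P.X p) → Nontrivial (Q.X q) → p + q = 0 := fun p q hp hq => by
    by_contra h
    haveI := (hP.free p).1
    haveI := (hQ.free q).1
    haveI : Nontrivial ((P.X p) ⊗[A] (Q.X q)) := by
      let bP := Module.Free.chooseBasis A (P.X p)
      let bQ := Module.Free.chooseBasis A (Q.X q)
      haveI := bP.index_nonempty
      haveI := bQ.index_nonempty
      exact (bP.tensorProduct bQ).repr.toEquiv.nontrivial
    have hz : IsZero ((KFlatLib.tT P Q).X (p + q)) :=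
      (isZero_single_obj_X (ComplexShape.up ℤ) 0 (ModuleCat.of A A) (p + q) h).of_iso (Hom.isoApp e (p + q))
    have hzero : KFlatLib.ιT P Q p q (p + q) rfl = 0 := hz.eq_of_tgt _ _
    have h0 := KFlatLib.ιT_proj (L := P) (K := Q) p q (p + q) rfl
    rw [hzero, zero_comp] at h0
    obtain ⟨x, hx⟩ := exists_ne (0 : (P.X p) ⊗[A] (Q.X q))
    exact hx (congrArg (fun φ => φ.hom x) h0.symm)
  obtain ⟨p, q, hp, hq⟩ : ∃ p q, Nontrivial (P.X p) ∧ Nontrivial (Q.X q) := by
    by_contra h
    push_neg at h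
    have hz : IsZero ((KFlatLib.tT P Q).X 0) := TwoTermLib.LTCx.isZero_tensor_X 0 fun p q _ => by
      rcases subsingleton_or_nontrivial (P.X p) with h1 | h1
      · exact Or.inl (ModuleCat.isZero_of_subsingleton _)
      · haveI := h p q h1
        exact Or.inr (ModuleCat.isZero_of_subsingleton _)
    haveI := ModuleCat.subsingleton_of_isZero
      (hz.of_iso ((singleObjXSelf (ComplexShape.up ℤ) 0 (ModuleCat.of A A)).symm ≪≫ (Hom.isoApp e 0).symm))
    exact not_subsingleton A inferInstance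
  obtain rfl : q = -p := by have := hne p q hp hq; omega
  have hQz : ∀ q, q ≠ -p → IsZero (Q.X q) := fun q hq' => by
    haveI : Subsingleton (Q.X q) := not_nontrivial_iff_subsingleton.1 fun h => hq' (by have := hne p q hp h; omega)
    exact ModuleCat.isZero_of_subsingleton _
  have hι : IsIso (KFlatLib.ιT P Q p (-p) 0 (add_neg_cancel p)) := by
    refine ⟨KFlatLib.proj p (-p) 0 (add_neg_cancel p), KFlatLib.ιT_proj _ _ _ _, ?_⟩
    refine mapBifunctor.hom_ext fun p' q' h => ?_
    have h' : p' + q' = 0 := h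
    by_cases hq' : q' = -p
    · subst hq'
      obtain rfl : p' = p := by omega
      rw [← Category.assoc]
      exact (congrArg (· ≫ _) (KFlatLib.ιT_proj _ _ _ _)).trans ((Category.id_comp _).trans (Category.comp_id _).symm)
    · exact ((tensorLeft (P.X p')).map_isZero (hQz q' hq')).eq_of_src _ _
  refine ⟨p, hQz, ?_⟩
  haveI := hι
  haveI := (hP.free p).1
  haveI := (hQ.free (-p)).1
  let ℓ : ((P.X p) ⊗[A] (Q.X (-p))) ≃ₗ[A] A :=
    (asIso (KFlatLib.ιT P Q p (-p) 0 (add_neg_cancel p)) ≪≫ Hom.isoApp e 0 ≪≫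
      singleObjXSelf (ComplexShape.up ℤ) 0 (ModuleCat.of A A)).toLinearEquiv
  have h1 := ℓ.finrank_eq
  rw [Module.finrank_tensorProduct, Module.finrank_self] at h1
  exact Nat.eq_one_of_mul_eq_one_left h1

/-- A complex concentrated in one degree with a free module of rank one is a shift of `A`. -/
theorem nonempty_iso_shift {Q : DRing.Cx A} {q : ℤ} (hz : ∀ i, i ≠ q → IsZero (Q.X i))
    (hf : Module.Free A (Q.X q) ∧ Module.Finite A (Q.X q)) (h1 : Module.finrank A (Q.X q) = 1) :
    Nonempty (DerivedCategory.Q.obj Q ≅ (Dual.inD A A)⟦-q⟧) := by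
  haveI := hf.1
  haveI := hf.2
  let ℓ : Q.X q ≃ₗ[A] A := (Module.finBasisOfFinrankEq A (Q.X q) h1).equivFun.trans (LinearEquiv.funUnique (Fin 1) A A)
  let S := (single (ModuleCat.{u} A) (ComplexShape.up ℤ) q).obj (ModuleCat.of A A)
  let f : S ⟶ Q := mkHomFromSingle ℓ.toModuleIso.inv fun k hk => (hz k (by simp at hk; omega)).eq_of_tgt _ _
  haveI : ∀ i, IsIso (f.f i) := fun i => by
    by_cases h : i = q
    · subst h
      simp only [f, mkHomFromSingle_f]
      infer_instance
    · exact ⟨0, (isZero_single_obj_X (ComplexShape.up ℤ) q (ModuleCat.of A A) i h).eq_of_src _ _, (hz i h).eq_of_src _ _⟩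
  haveI : IsIso f := Hom.isIso_of_components f
  exact ⟨(DerivedCategory.Q.mapIso (asIso f)).symm ≪≫
    ((DerivedCategory.singleFunctorIsoCompQ (ModuleCat.{u} A) q).app (ModuleCat.of A A)).symm ≪≫
    (DRingLib.singleShiftIso (ModuleCat.of A A) q).symm⟩

theorem main [IsNoetherianRing A] (L : Dual.D A) (E : DRing.Cx A) [DRing.HasLTensorCx A E]
    (hLfin : ∀ i : ℤ, Module.Finite A (Dual.HD A L i))
    (hLbdd : ∃ b : ℤ, ∀ i : ℤ, b < i → Subsingleton (Dual.HD A L i))
    (hEfin : ∀ i : ℤ, Module.Finite A (Dual.HD A (DRing.toD E) i))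
    (hEbdd : ∃ b : ℤ, ∀ i : ℤ, b < i → Subsingleton (Dual.HD A (DRing.toD E) i))
    (h : Nonempty ((DRing.LTensorCx A E).obj L ≅ Dual.inD A A)) :
    ∃ n : ℤ, Nonempty (L ≅ (Dual.inD A A)⟦n⟧) ∧ Nonempty (DRing.toD E ≅ (Dual.inD A A)⟦(-n)⟧) := by
  obtain ⟨bL, hbL⟩ := hLbdd
  obtain ⟨bE, hbE⟩ := hEbdd
  obtain ⟨P, b, hP, ⟨eP⟩⟩ := exists_min L hLfin hbL
  obtain ⟨Q, c, hQ, ⟨eQ⟩⟩ := exists_min (DRing.toD E) hEfin hbE
  obtain ⟨h⟩ := h
  have hPk := DRingLib.isKFlat_of_free P b hP.above fun i => (hP.free i).1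
  haveI := DRingLib.isKProjective_of_free Q c hQ.above fun i => (hQ.free i).1
  obtain ⟨g, hg⟩ := DRingLib.exists_qis_of_iso Q E eQ
  haveI := hg
  haveI := KFlatLib.quasiIso_tMap_left hPk g
  let e₁ : DerivedCategory.Q.obj (KFlatLib.tT P Q) ≅
      DerivedCategory.Q.obj ((single (ModuleCat.{u} A) (ComplexShape.up ℤ) 0).obj (ModuleCat.of A A)) :=
    asIso (DerivedCategory.Q.map (KFlatLib.tMap (𝟙 P) g)) ≪≫ (TwoTermLib.LTCx.objIso E P hPk).symm ≪≫
      (DRing.LTensorCx A E).mapIso eP ≪≫ h ≪≫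
      (DerivedCategory.singleFunctorIsoCompQ (ModuleCat.{u} A) 0).app (ModuleCat.of A A)
  have hT := isMin_tensor hP hQ
  obtain ⟨e⟩ := TwoTermLib.MinRep.nonempty_iso (KFlatLib.tT P Q) _ hT.above (isMin_single (A := A)).above
    hT.free (isMin_single (A := A)).free hT.minimal (isMin_single (A := A)).minimal e₁
  obtain ⟨a, hQz, hQ1⟩ := exists_degree hP hQ e
  obtain ⟨a', hPz, hP1⟩ : ∃ a', (∀ p, p ≠ -a' → IsZero (P.X p)) ∧ Module.finrank A (P.X (-a')) = 1 :=
    exists_degree hQ hP (KFlatLib.tensorFlipIso P Q ≪≫ e)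
  obtain rfl : a' = -a := by
    by_contra hne
    have hz : IsZero ((KFlatLib.tT P Q).X 0) := TwoTermLib.LTCx.isZero_tensor_X 0 fun p q hpq => by
      by_cases hp : p = -a'
      · exact Or.inr (hQz q (by omega))
      · exact Or.inl (hPz p hp)
    haveI := ModuleCat.subsingleton_of_isZero
      (hz.of_iso ((singleObjXSelf (ComplexShape.up ℤ) 0 (ModuleCat.of A A)).symm ≪≫ (Hom.isoApp e 0).symm))
    exact not_subsingleton A inferInstance
  rw [neg_neg] at hPz hP1
  obtain ⟨i₁⟩ := nonempty_iso_shift hPz (hP.free a) hP1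
  obtain ⟨i₂⟩ := nonempty_iso_shift hQz (hQ.free (-a)) hQ1
  exact ⟨-a, ⟨eP.symm ≪≫ i₁⟩, ⟨eQ.symm ≪≫ i₂⟩⟩

end InvCxLib
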